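import Cfsg.Agent.H98.OrthDecomp.Trick

/-!
An Eichler element with centre outside all blocks yields one with centre inside a block.
-/

set_option autoImplicit false

namespace Cfsg.Agent.H98.OrthDecomp

open QuadraticMap Module Cfsg.Agent.Orthogonal
open Cfsg.Agent.H98.SubfieldOrth
open Cfsg.Agent.H98.OrthMax (rO_mul_mem)

variable {F V : Type*} [Field F] [AddCommGroup V] [Module F V]
  {Q : QuadraticForm F V} {t k : ℕ} {D : Fin t → Submodule F V} {X : Subgroup (O Q)}

/-- An orthogonal map can be corrected inside a nondegenerate subspace to a commutator. -/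
theorem exists_corr [Finite F] [FiniteDimensional F V] (hQ : Nondeg Q) (hn : 5 ≤ finrank F V) {P : Submodule F V}
    (hP : Nondeg (F := F) (V := P) (restr Q P)) (hd : 2 ≤ finrank F P) (g : O Q) :
    ∃ ρ : O Q, (∀ v ∈ perp Q P, (ρ : V ≃ₗ[F] V) v = v) ∧ g * ρ ∈ commutator (O Q) := by
  have hg : g ∈ reflGroup Q := by rw [reflGroup_eq_top hQ (Or.inr (by omega))]; exact Subgroup.mem_top g
  induction hg using Subgroup.closure_induction with
  | mem x hx =>
    obtain ⟨a, rfl⟩ := hx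
    by_cases ha : Q a = 0
    · exact ⟨1, fun v _ => rfl, by rw [rO_of_singular ha, one_mul]; exact Subgroup.one_mem _⟩
    · obtain ⟨c, hc, hca⟩ := exists_value_mem hP hd (Q a)
      exact ⟨rO Q c, fun v hv => rO_fix (hv c hc), rO_mul_mem hQ ha hca⟩
  | one => exact ⟨1, fun v _ => rfl, by rw [one_mul]; exact Subgroup.one_mem _⟩
  | mul x y _ _ hx hy =>
    obtain ⟨ρ, hρ, hxρ⟩ := hx
    obtain ⟨ρ', hρ', hyρ⟩ := hy
    refine ⟨ρ' * ρ, fun v hv => by rw [Subgroup.coe_mul, mul_app, hρ v hv, hρ' v hv], ?_⟩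
    have e : x * y * (ρ' * ρ) = (x * (y * ρ') * x⁻¹) * (x * ρ) := by group
    rw [e]
    exact mul_mem (Subgroup.Normal.conj_mem inferInstance _ hyρ x) hxρ
  | inv x _ hx =>
    obtain ⟨ρ, hρ, hxρ⟩ := hx
    refine ⟨ρ⁻¹, fun v hv => ?_, ?_⟩
    · conv_lhs => rw [← hρ v hv, ← mul_app, ← Subgroup.coe_mul, inv_mul_cancel, OneMemClass.coe_one, one_app]
    · have e : x⁻¹ * ρ⁻¹ = (x⁻¹ * (x * ρ) * x⁻¹⁻¹)⁻¹ := by group
      rw [e]
      exact Subgroup.inv_mem _ (Subgroup.Normal.conj_mem inferInstance _ hxρ x⁻¹)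

namespace ODec

variable [Finite F] [FiniteDimensional F V] (H : ODec Q k D) (hX : Over D X)
include H hX

/-- An element of `X` fixing one block pointwise and carrying a second to a third. -/
theorem exists_move {l i r : Fin t} (hli : l ≠ i) (hlr : l ≠ r) (hir : i ≠ r) :
    ∃ π ∈ X, (∀ v ∈ D l, (π : V ≃ₗ[F] V) v = v) ∧ ∀ v ∈ D i, (π : V ≃ₗ[F] V) v ∈ D r := by
  obtain ⟨e, he⟩ := H.isom i r
  let Pi : V →ₗ[F] D i := (H.pr i).codRestrict (D i) (H.pr_mem i)
  let Pr : V →ₗ[F] D r := (H.pr r).codRestrict (D r) (H.pr_mem r)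
  let s : V →ₗ[F] V := LinearMap.id - H.pr i - H.pr r + (D r).subtype ∘ₗ e.toLinearMap ∘ₗ Pi +
    (D i).subtype ∘ₗ e.symm.toLinearMap ∘ₗ Pr
  have hs : ∀ x, s x = x - H.pr i x - H.pr r x + (e (Pi x) : V) + (e.symm (Pr x) : V) := fun x => rfl
  have hperp : ∀ (x : V) (j : Fin t), j = i ∨ j = r → ∀ v ∈ D j, polar Q v (x - H.pr i x - H.pr r x) = 0 := by
    rintro x j (rfl | rfl) v hv
    · rw [polar_sub_right, H.polar_sub_pr hv, H.orth j r hir v hv _ (H.pr_mem r x), sub_zero]
    · rw [sub_right_comm, polar_sub_right, H.polar_sub_pr hv, H.orth j i hir.symm v hv _ (H.pr_mem i x), sub_zero]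
  have hQs : ∀ x, Q (s x) = Q x := by
    intro x
    have h1 : Q (e.symm (Pr x) : V) = Q (H.pr r x) := by
      conv_rhs => rw [show H.pr r x = ((e (e.symm (Pr x)) : D r) : V) by rw [e.apply_symm_apply]; rfl, he]
    have h2 : Q (e (Pi x) : V) = Q (H.pr i x) := he (Pi x)
    have ea : ∀ y z : V, y ∈ D r → z ∈ D i →
        Q (x - H.pr i x - H.pr r x + y + z) = Q (x - H.pr i x - H.pr r x) + Q y + Q z := fun y z hy hz => by
      rw [map_add_polar, map_add_polar, polar_add_left, polar_comm (⇑Q) _ y, hperp x r (Or.inr rfl) y hy,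
        polar_comm (⇑Q) _ z, hperp x i (Or.inl rfl) z hz, H.orth r i hir.symm y hy z hz]
      ring
    calc Q (s x) = Q (x - H.pr i x - H.pr r x) + Q (H.pr r x) + Q (H.pr i x) := by
          rw [hs, ea _ _ (e (Pi x)).2 (e.symm (Pr x)).2, h1, h2]; ring
      _ = Q x := by rw [← ea _ _ (H.pr_mem r x) (H.pr_mem i x)]; congr 1; abel
  set σ := H.nQ.ofLinear s hQs with hσ
  obtain ⟨ρ, hρ, hmem⟩ := exists_corr H.nQ H.five_le (H.nd r) (by rw [H.rk]; have := H.hk; omega) σ
  have hρfix : ∀ j, j ≠ r → ∀ v ∈ D j, (ρ : V ≃ₗ[F] V) v = v := fun j hj v hv =>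
    hρ v fun w hw => H.orth r j hj.symm w hw v hv
  have hσfix : ∀ j, j ≠ r → j ≠ i → ∀ v ∈ D j, (σ : V ≃ₗ[F] V) v = v := fun j hjr hji v hv => by
    rw [hσ, Nondeg.ofLinear_app, hs]
    have h1 : Pi v = 0 := Subtype.ext (H.pr_other hv hji.symm)
    have h2 : Pr v = 0 := Subtype.ext (H.pr_other hv hjr.symm)
    rw [h1, h2, H.pr_other hv hji.symm, H.pr_other hv hjr.symm]
    simp
  have hσi : ∀ v ∈ D i, (σ : V ≃ₗ[F] V) v ∈ D r := fun v hv => by
    rw [hσ, Nondeg.ofLinear_app, hs]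
    have h2 : Pr v = 0 := Subtype.ext (H.pr_other hv hir.symm)
    rw [h2, H.pr_self hv, H.pr_other hv hir.symm]
    simp
  have hσr : ∀ v ∈ D r, (σ : V ≃ₗ[F] V) v ∈ D i := fun v hv => by
    rw [hσ, Nondeg.ofLinear_app, hs]
    have h1 : Pi v = 0 := Subtype.ext (H.pr_other hv hir)
    rw [h1, H.pr_self hv, H.pr_other hv hir]
    simp
  have hρr : ∀ v ∈ D r, (ρ : V ≃ₗ[F] V) v ∈ D r := fun v hv => by
    have h := OrthMax.perp_invariant ρ (W := perp Q (D r)) (fun w hw => by rw [hρ w hw]; exact hw) v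
      (by rw [H.nQ.perp_perp]; exact hv)
    rwa [H.nQ.perp_perp] at h
  refine ⟨σ * ρ, hX.stab _ hmem fun j => ?_, fun v hv => ?_, fun v hv => ?_⟩
  · by_cases hji : j = i
    · subst hji
      exact ⟨r, fun v hv => by rw [Subgroup.coe_mul, mul_app, hρfix j hir v hv]; exact hσi v hv⟩
    by_cases hjr : j = r
    · subst hjr
      exact ⟨i, fun v hv => by rw [Subgroup.coe_mul, mul_app]; exact hσr _ (hρr v hv)⟩
    exact ⟨j, fun v hv => by rw [Subgroup.coe_mul, mul_app, hρfix j hjr v hv, hσfix j hjr hji v hv]; exact hv⟩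
  · rw [Subgroup.coe_mul, mul_app, hρfix l hlr v hv, hσfix l hlr hli v hv]
  · rw [Subgroup.coe_mul, mul_app, hρfix i hir v hv]
    exact hσi v hv

/-- A vector of a block orthogonal to the component of the centre. -/
theorem exists_z {a b : V} (h : SInF X a b) {l : Fin t} (hA : Q (H.pr l a) ≠ 0)
    (hb : H.pr l b ∉ Submodule.span F {H.pr l a}) :
    ∃ z ∈ D l, z ≠ 0 ∧ polar Q (H.pr l a) z = 0 ∧ SInF X a z := by
  have h2 := H.two
  have hk := H.hk
  set al := H.pr l a with hal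
  obtain ⟨P, hPle, hPn, hPd, hPp, hPin⟩ := exists_rest_aniso H.nQ h2 (H.nd l) (H.pr_mem l a) hA
  rw [H.rk] at hPd
  set μ := polar Q al b / (2 * Q al) with hμ
  set b' := H.pr l b - μ • al with hb'
  have hb'P : b' ∈ P := hPin _ ((D l).sub_mem (H.pr_mem l b) ((D l).smul_mem _ (H.pr_mem l a))) (by
    rw [polar_sub_right, polar_smul_right', polar_self', H.polar_pr (H.pr_mem l a), hμ,
      div_mul_cancel₀ _ (mul_ne_zero h2 hA), sub_self])
  have hb'0 : b' ≠ 0 := fun e => hb (by
    rw [sub_eq_zero.1 e]; exact Submodule.smul_mem _ _ (Submodule.mem_span_singleton_self _))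
  obtain ⟨c, hcP, hc, hcb⟩ : ∃ c ∈ P, Q c ≠ 0 ∧ polar Q c b' ≠ 0 := by
    by_cases hq : Q b' = 0
    · obtain ⟨⟨f, hfP⟩, hf, hbf⟩ := hPn.exists_partner (u := ⟨b', hb'P⟩)
        (fun e => hb'0 (congrArg Subtype.val e)) (by rw [restr_apply]; exact hq)
      rw [restr_apply] at hf
      rw [polar_restr] at hbf
      refine ⟨b' + f, P.add_mem hb'P hfP, ?_, ?_⟩
      · rw [map_add_polar, hq, hf, hbf]; simp
      · rw [polar_add_left, polar_self', hq, polar_comm (⇑Q) f b', hbf]; simp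
    · exact ⟨b', hb'P, hq, by rw [polar_self']; exact mul_ne_zero h2 hq⟩
  obtain ⟨P', hP'le, hP'n, hP'd, hP'p, -⟩ := exists_rest_aniso H.nQ h2 hPn hcP hc
  obtain ⟨f, hfP, hf, hfc⟩ : ∃ f ∈ P, Q f = Q c ∧ ∀ μ : F, f ≠ μ • c := by
    by_cases hk4 : 4 ≤ k
    · obtain ⟨f, hfP', hf⟩ := exists_value_mem hP'n (by omega) (Q c)
      refine ⟨f, hP'le hfP', hf, fun ν e => ?_⟩
      have := hP'p f hfP'
      rw [e, polar_smul_right', polar_self', mul_eq_zero] at this
      rw [e, qmap_smul, this.resolve_right (mul_ne_zero h2 hc)] at hf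
      exact hc (by rw [← hf]; ring)
    · obtain ⟨s₀, hs₀, hs₁⟩ := H.hex (by omega)
      obtain ⟨y, hyP', hy⟩ := exists_aniso_of_nondeg hP'n (by omega)
      have hcy := hP'p y hyP'
      obtain ⟨s, hs, he⟩ : ∃ s : F, s ≠ 0 ∧ Q c + s ^ 2 * Q y ≠ 0 := by
        by_contra hcon
        push Not at hcon
        refine hs₁ (mul_right_cancel₀ hy ?_)
        linear_combination hcon s₀ hs₀ - hcon 1 one_ne_zero
      have hQe : Q (c + s • y) ≠ 0 := by rw [map_add_polar, qmap_smul, polar_smul_right', hcy]; simpa using he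
      refine ⟨(rO Q (c + s • y) : V ≃ₗ[F] V) c, ?_, O.map_app _ c, fun ν e => ?_⟩
      · rw [rO_app]; exact P.sub_mem hcP (P.smul_mem _ (P.add_mem hcP (P.smul_mem _ (hP'le hyP'))))
      · have := congrArg (polar Q y) e
        rw [rO_app, polar_sub_right, polar_smul_right', polar_smul_right', polar_add_right, polar_smul_right',
          polar_add_left, polar_smul_left', polar_comm (⇑Q) y c, hcy, polar_self', polar_self'] at this
        simp [H.two, hc, hy, hs, hQe] at this
  have hca : polar Q c a = 0 := by rw [← H.polar_pr (hPle hcP), polar_comm]; exact hPp c hcP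
  have hfa : polar Q f a = 0 := by rw [← H.polar_pr (hPle hfP), polar_comm]; exact hPp f hfP
  set g := rO Q c * rO Q f with hgd
  have hg : g ∈ X := H.pair_mem hX (hPle hcP) (hPle hfP) hc hf
  have hga : (g : V ≃ₗ[F] V) a = a := by rw [hgd, Subgroup.coe_mul, mul_app, rO_fix hfa, rO_fix hca]
  set β := (Q f)⁻¹ * polar Q f b with hβ
  set γ := (Q c)⁻¹ * polar Q c (b - β • f) with hγ
  have hd : (g : V ≃ₗ[F] V) b - b = -(β • f) - γ • c := by
    rw [hgd, Subgroup.coe_mul, mul_app, rO_app Q f b, ← hβ, rO_app Q c, ← hγ]; abel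
  refine ⟨-(β • f) - γ • c, (D l).sub_mem ((D l).neg_mem ((D l).smul_mem _ (hPle hfP))) ((D l).smul_mem _ (hPle hcP)),
    fun e => ?_, ?_, (h.diff hg hga).congr rfl hd⟩
  · by_cases hβ0 : β = 0
    · rw [hβ0, zero_smul, neg_zero, zero_sub, neg_eq_zero, smul_eq_zero, hγ, hβ0, zero_smul, sub_zero,
        mul_eq_zero, inv_eq_zero] at e
      refine hcb ?_
      rw [hb', polar_sub_right, polar_smul_right', H.polar_pr (hPle hcP), polar_comm (⇑Q) c al, hPp c hcP,
        mul_zero, sub_zero]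
      exact (e.resolve_right fun e => hc (by rw [e, map_zero])).resolve_left hc
    · refine hfc (-γ / β) ?_
      rw [neg_div, neg_smul, div_eq_inv_mul, mul_smul, ← smul_neg,
        show -(γ • c) = β • f by linear_combination (norm := module) e, inv_smul_smul₀ hβ0]
  · rw [polar_sub_right, polar_neg_right, polar_smul_right', polar_smul_right', hPp c hcP, hPp f hfP]; ring

/-- Three components, one of them not proportional to the vector. -/
theorem goal_of_three {a b : V} (h : SInF X a b) {l r m : Fin t} (hrl : r ≠ l) (hml : m ≠ l) (hrm : r ≠ m)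
    (hra : H.pr r a ≠ 0) (hma : H.pr m a ≠ 0) (hb : H.pr l b ∉ Submodule.span F {H.pr l a}) : Goal D X := by
  have ha : Wide D a := H.wide_of_two hrm hra hma
  by_cases hA : Q (H.pr l a) = 0
  · exact H.goal_of_singular hX ha h l hA hb
  obtain ⟨z, hzl, hz0, -, hz⟩ := H.exists_z hX h hA hb
  by_cases hQz : Q z = 0
  · exact ⟨l, z, a, hzl, hz0, hQz, ha l, hz.swap hQz⟩
  obtain ⟨i, hil, hi⟩ : ∃ i, i ≠ l ∧ Q (H.pr i a) ≠ 0 := by
    by_contra hc
    push Not at hc
    refine hA ?_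
    have h0 := H.q_sum a
    rwa [h.singular, Finset.sum_eq_single l (fun i _ hi => hc i hi) (fun e => absurd (Finset.mem_univ l) e),
      eq_comm] at h0
  obtain ⟨j, hjl, hji, hja⟩ : ∃ j, j ≠ l ∧ j ≠ i ∧ H.pr j a ≠ 0 := by
    by_cases hri : r = i
    · exact ⟨m, hml, fun e => hrm (hri.trans e.symm), hma⟩
    · exact ⟨r, hrl, hri, hra⟩
  obtain ⟨a', b', h', hi', -, h1, h0⟩ := H.trick hX hz hQz (H.pr_other hzl hil) hi
  obtain ⟨hj0, c, hc, hcb⟩ := h0 j hji (H.pr_other hzl hjl)
  refine H.goal_of_singular hX (H.wide_of_two hil hi' (h1 l hil.symm (by rw [H.pr_self hzl]; exact hz0))) h' j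
    (by rw [hj0, map_zero]) ?_
  rw [hj0, hcb, Submodule.span_singleton_eq_bot.2 rfl, Submodule.mem_bot]
  exact smul_ne_zero hc hja

/-- A component not proportional to the vector. -/
theorem goal_of_component {a b : V} (ha : Wide D a) (h : SInF X a b) (l : Fin t)
    (hb : H.pr l b ∉ Submodule.span F {H.pr l a}) : Goal D X := by
  by_cases hA : Q (H.pr l a) = 0
  · exact H.goal_of_singular hX ha h l hA hb
  obtain ⟨z, hzl, hz0, hzp, hz⟩ := H.exists_z hX h hA hb
  by_cases hQz : Q z = 0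
  · exact ⟨l, z, a, hzl, hz0, hQz, ha l, hz.swap hQz⟩
  obtain ⟨i, hil, hi⟩ := H.exists_ne_of_wide ha l
  by_cases hj : ∃ j, j ≠ l ∧ j ≠ i ∧ H.pr j a ≠ 0
  · obtain ⟨j, hjl, hji, hja⟩ := hj
    exact H.goal_of_three hX h hjl hil hji hja hi hb
  push Not at hj
  obtain ⟨r, hrl, hri⟩ : ∃ r, r ≠ l ∧ r ≠ i := by
    by_contra hc
    push Not at hc
    have hsub : (Finset.univ : Finset (Fin t)) ⊆ {l, i} := fun x _ => by
      rcases eq_or_ne x l with rfl | hx
      · simp
      · simp [hc x hx]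
    have h3 := (Finset.card_le_card hsub).trans Finset.card_le_two
    have := H.ht
    rw [Finset.card_univ, Fintype.card_fin] at h3
    omega
  obtain ⟨π, hπ, hπl, hπi⟩ := H.exists_move hX hil.symm hrl.symm hri.symm
  have hsum : a = H.pr l a + H.pr i a := by
    conv_lhs => rw [← H.sum_pr a]
    exact Finset.sum_eq_add l i hil.symm (fun x _ hx => hj x hx.1 hx.2) (fun e => absurd (Finset.mem_univ l) e)
      (fun e => absurd (Finset.mem_univ i) e)
  set al := H.pr l a with hal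
  set ai := H.pr i a with hai
  have halD : al ∈ D l := H.pr_mem l a
  have haiD : ai ∈ D i := H.pr_mem i a
  set w := (π : V ≃ₗ[F] V) ai with hw
  have hwD : w ∈ D r := hπi ai haiD
  have hw0 : w ≠ 0 := fun e => hi ((π : V ≃ₗ[F] V).map_eq_zero_iff.1 e)
  have hπa : (π : V ≃ₗ[F] V) a = al + w := by rw [hsum, map_add, hπl al halD, hw]
  have hz' := (hz.conj hπ).congr hπa (hπl z hzl)
  obtain ⟨hu, hv, hY⟩ := hz'.sIn
  have hpa : polar Q (al + w) a = 2 * Q al := by
    rw [hsum, polar_add_left, polar_add_right, polar_add_right, polar_self', H.orth l i hil.symm al halD ai haiD,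
      H.orth r l hrl w hwD al halD, H.orth r i hri w hwD ai haiD]
    ring
  have hza : polar Q z a = 0 := by rw [polar_comm]; exact hz.orth
  set p := 2 * Q al with hp
  set c := Q z * p with hc
  have hp0 : p ≠ 0 := mul_ne_zero H.two hA
  have h'' : SInF X ((1 - c) • al + ai + (-c) • w + (-p) • z) (z + (2 * Q z) • (al + w)) := by
    refine (hz.conj hY).congr ?_ ?_
    · rw [sie_app, hza, hpa, ← hc]
      conv_lhs => rw [hsum]
      module
    · rw [sie_app, hv, polar_self']
      module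
  set a' := (1 - c) • al + ai + (-c) • w + (-p) • z with ha'
  set b' := z + (2 * Q z) • (al + w) with hb'
  have pal : H.pr l a' = (1 - c) • al + (-p) • z := by
    simp [ha', H.pr_self halD, H.pr_other haiD hil.symm, H.pr_other hwD hrl.symm, H.pr_self hzl]
  have pai : H.pr i a' = ai := by
    simp [ha', H.pr_other halD hil, H.pr_self haiD, H.pr_other hwD hri.symm, H.pr_other hzl hil]
  have par : H.pr r a' = (-c) • w := by
    simp [ha', H.pr_other halD hrl, H.pr_other haiD hri, H.pr_self hwD, H.pr_other hzl hrl]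
  have pbl : H.pr l b' = z + (2 * Q z) • al := by
    simp [hb', H.pr_self halD, H.pr_other hwD hrl.symm, H.pr_self hzl]
  have pbi : H.pr i b' = 0 := by
    simp [hb', H.pr_other halD hil, H.pr_other hwD hri.symm, H.pr_other hzl hil]
  have pbr : H.pr r b' = (2 * Q z) • w := by
    simp [hb', H.pr_other halD hrl, H.pr_self hwD, H.pr_other hzl hrl]
  have hrne : H.pr r a' ≠ 0 := by rw [par]; exact smul_ne_zero (neg_ne_zero.2 (mul_ne_zero hQz hp0)) hw0
  have hind : ∀ x y : F, x • al + y • z = 0 → x = 0 ∧ y = 0 := fun x y e => by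
    have h1 := congrArg (polar Q al) e
    rw [polar_add_right, polar_smul_right', polar_smul_right', hzp, polar_self', polar_zero_right, mul_zero,
      add_zero, mul_eq_zero] at h1
    have hx := h1.resolve_right (mul_ne_zero H.two hA)
    rw [hx, zero_smul, zero_add, smul_eq_zero] at e
    exact ⟨hx, e.resolve_right hz0⟩
  by_cases hpar : H.pr l b' ∈ Submodule.span F {H.pr l a'}
  · have hQb' : Q b' ≠ 0 := by
      have e : b' = (sie (al + w) z hu hv : V ≃ₗ[F] V) z := by
        rw [sie_app, polar_self', hv, hb']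
        module
      rw [e, O.map_app]; exact hQz
    obtain ⟨a₃, b₃, h₃, -, hnon, h1, -⟩ := H.trick hX h'' hQb' pbi (by
      rw [pai]
      intro e
      refine hA ?_
      have h0 := h.singular
      rwa [hsum, map_add_polar, e, add_zero, H.orth l i hil.symm al halD ai haiD, add_zero] at h0)
    refine H.goal_of_three hX h₃ hri hil.symm hrl
      (h1 r hri (by rw [pbr]; exact smul_ne_zero (mul_ne_zero H.two hQz) hw0)) (h1 l hil.symm ?_) hnon
    rw [pbl]
    intro e
    exact one_ne_zero (hind (2 * Q z) 1 (by rw [one_smul, add_comm]; exact e)).2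
  · exact H.goal_of_three hX h'' hrl hil hri hrne (by rw [pai]; exact hi) hpar

/-- A centre outside all blocks. -/
theorem goal_of_wide {a b : V} (ha : Wide D a) (h : SInF X a b) (hb : b ∉ Submodule.span F {a}) : Goal D X := by
  by_cases hnp : ∃ l, H.pr l b ∉ Submodule.span F {H.pr l a}
  · obtain ⟨l, hl⟩ := hnp
    exact H.goal_of_component hX ha h l hl
  push Not at hnp
  choose ν hν using fun l => Submodule.mem_span_singleton.1 (hnp l)
  obtain ⟨l, hl⟩ := H.exists_pr_ne (a := a) (fun e => ha ⟨0, by have := H.ht; omega⟩ (e ▸ Submodule.zero_mem _))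
  have hb₁ : SInF X a (b + (-ν l) • a) := h.add_center _
  have hb₁l : H.pr l (b + (-ν l) • a) = 0 := by rw [map_add, map_smul, ← hν l]; module
  have hb₁0 : b + (-ν l) • a ≠ 0 := fun e => hb (by
    rw [neg_smul, ← sub_eq_add_neg, sub_eq_zero] at e
    rw [e]; exact Submodule.smul_mem _ _ (Submodule.mem_span_singleton_self _))
  by_cases hQ₁ : Q (b + (-ν l) • a) = 0
  · by_cases hw : Wide D (b + (-ν l) • a)
    · refine H.goal_of_component hX hw (hb₁.swap hQ₁) l ?_
      rw [hb₁l, Submodule.span_singleton_eq_bot.2 rfl, Submodule.mem_bot]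
      exact hl
    · simp only [Wide, not_forall, not_not] at hw
      obtain ⟨i, hi⟩ := hw
      exact ⟨i, _, a, hi, hb₁0, hQ₁, ha i, hb₁.swap hQ₁⟩
  obtain ⟨i, hi⟩ : ∃ i, Q (H.pr i (b + (-ν l) • a)) ≠ 0 := by
    by_contra hc
    push Not at hc
    exact hQ₁ (by rw [H.q_sum]; exact Finset.sum_eq_zero fun i _ => hc i)
  have hpi : H.pr i (b + (-ν l) • a) = (ν i - ν l) • H.pr i a := by rw [map_add, map_smul, ← hν i]; module
  rw [hpi, qmap_smul, mul_ne_zero_iff] at hi
  have hb₂ : SInF X a (b + (-ν i) • a) := h.add_center _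
  have hb₂i : H.pr i (b + (-ν i) • a) = 0 := by rw [map_add, map_smul, ← hν i]; module
  have hQ₂ : Q (b + (-ν i) • a) = Q (b + (-ν l) • a) := by
    simp only [map_add_polar, qmap_smul, h.singular, polar_smul_right', polar_comm (⇑Q) b a, h.orth, mul_zero,
      add_zero]
  obtain ⟨a', b', h', hi', hnon, h1, -⟩ := H.trick hX hb₂ (hQ₂ ▸ hQ₁) hb₂i hi.2
  obtain ⟨j, hj⟩ := H.exists_pr_ne (fun e => hQ₁ (by rw [← hQ₂, e, map_zero]) : b + (-ν i) • a ≠ 0)
  have hji : j ≠ i := fun e => hj (e ▸ hb₂i)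
  exact H.goal_of_component hX (H.wide_of_two hji (h1 j hji hj) hi') h' i hnon

end ODec

end Cfsg.Agent.H98.OrthDecomp
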