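import Cfsg.Agent.H98.SubfieldOrth.Basic
import Cfsg.Agent.H98.OrthMax.NondegAux

/-!
Orthogonal decompositions into isometric blocks: projections, elements of the stabiliser, scaled Eichler elements.
-/

set_option autoImplicit false

namespace Cfsg.Agent.H98.OrthDecomp

open QuadraticMap Module Cfsg.Agent.Orthogonal
open Cfsg.Agent.H98.SubfieldOrth
open Cfsg.Agent.H98.OrthMax (rO_mul_mem perp_invariant)

variable {F V : Type*} [Field F] [AddCommGroup V] [Module F V]

/-- An orthogonal decomposition into isometric blocks of dimension at least three, in odd characteristic. -/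
structure ODec (Q : QuadraticForm F V) {t : ℕ} (k : ℕ) (D : Fin t → Submodule F V) : Prop where
  two : (2 : F) ≠ 0
  hk : 3 ≤ k
  ht : 3 ≤ t
  hex : k = 3 → ∃ s : F, s ≠ 0 ∧ s ^ 2 ≠ 1
  rk : ∀ i, finrank F (D i) = k
  nd : ∀ i, Nondeg (F := F) (V := D i) (restr Q (D i))
  orth : ∀ i j, i ≠ j → ∀ x ∈ D i, ∀ y ∈ D j, polar Q x y = 0
  isom : ∀ i j, ∃ e : D i ≃ₗ[F] D j, ∀ w, Q ((e w : D j) : V) = Q (w : V)
  top : iSup D = ⊤
  nQ : Nondeg Q

/-- A nonzero nondegenerate subspace contains an anisotropic vector. -/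
theorem exists_aniso_of_nondeg [FiniteDimensional F V] {Q : QuadraticForm F V} {W : Submodule F V}
    (hW : Nondeg (F := F) (V := W) (restr Q W)) (hd : 0 < finrank F W) : ∃ e ∈ W, Q e ≠ 0 := by
  have : Nontrivial W := Module.finrank_pos_iff.1 hd
  obtain ⟨x, hx⟩ := exists_ne (0 : W)
  obtain ⟨e, he⟩ := exists_anisotropic hW hx
  exact ⟨e, e.2, he⟩

/-- Vectors of a given value in a nondegenerate subspace. -/
theorem exists_value_mem [Finite F] [FiniteDimensional F V] {Q : QuadraticForm F V} {W : Submodule F V}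
    (hW : Nondeg (F := F) (V := W) (restr Q W)) (hd : 2 ≤ finrank F W) (c : F) : ∃ e ∈ W, Q e = c := by
  obtain ⟨⟨e, he⟩, hec⟩ := hW.exists_value hd c
  exact ⟨e, he, hec⟩

/-- The rest of a nondegenerate subspace after removing an anisotropic vector. -/
theorem exists_rest_aniso [FiniteDimensional F V] {Q : QuadraticForm F V} (hQ : Nondeg Q) (h2 : (2 : F) ≠ 0)
    {W : Submodule F V} (hW : Nondeg (F := F) (V := W) (restr Q W)) {a : V} (ha : a ∈ W) (hQa : Q a ≠ 0) :
    ∃ P ≤ W, Nondeg (F := F) (V := P) (restr Q P) ∧ finrank F P + 1 = finrank F W ∧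
      (∀ x ∈ P, polar Q a x = 0) ∧ ∀ x ∈ W, polar Q a x = 0 → x ∈ P := by
  have ha0 : a ≠ 0 := fun e => hQa (by rw [e, map_zero])
  have hsp : Nondeg (F := F) (V := Submodule.span F {a}) (restr Q (Submodule.span F {a})) := by
    rw [nondeg_restr_iff]
    refine eq_bot_iff.2 fun x hx => ?_
    obtain ⟨c, rfl⟩ := Submodule.mem_span_singleton.1 hx.1
    have h1 := hx.2 a (Submodule.mem_span_singleton_self a)
    rw [polar_smul_right', polar_self', mul_eq_zero] at h1
    rw [h1.resolve_right (mul_ne_zero h2 hQa), zero_smul]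
    exact Submodule.zero_mem _
  obtain ⟨h1, -, h3⟩ := hQ.nondeg_inf_perp hW hsp ((Submodule.span_singleton_le_iff_mem a W).2 ha)
  rw [finrank_span_singleton ha0] at h3
  exact ⟨_, inf_le_left, h1, h3, fun x hx => (mem_perp_span_singleton Q).1 hx.2,
    fun x hx hax => ⟨hx, (mem_perp_span_singleton Q).2 hax⟩⟩

variable {Q : QuadraticForm F V} {t k : ℕ} {D : Fin t → Submodule F V}

/-- `a` lies in no block. -/
def Wide (D : Fin t → Submodule F V) (a : V) : Prop := ∀ i, a ∉ D i

/-- All the Eichler transformations with centre `a` and vector a multiple of `b` lie in `X`. -/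
def SInF (X : Subgroup (O Q)) (a b : V) : Prop := ∀ c : F, SIn X a (c • b)

variable {X : Subgroup (O Q)}

theorem SInF.congr {a b a' b' : V} (h : SInF X a b) (e1 : a = a') (e2 : b = b') : SInF X a' b' := e1 ▸ e2 ▸ h

theorem SInF.sIn {a b : V} (h : SInF X a b) : SIn X a b := (h 1).congr rfl (one_smul F b)

theorem SInF.singular {a b : V} (h : SInF X a b) : Q a = 0 := h.sIn.singular

theorem SInF.orth {a b : V} (h : SInF X a b) : polar Q a b = 0 := h.sIn.orth

theorem SInF.add {a b b' : V} (h : SInF X a b) (h' : SInF X a b') : SInF X a (b + b') := fun c =>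
  ((h c).add (h' c)).congr rfl (smul_add c b b').symm

theorem SInF.sub {a b b' : V} (h : SInF X a b) (h' : SInF X a b') : SInF X a (b - b') := fun c =>
  ((h c).sub (h' c)).congr rfl (smul_sub c b b').symm

theorem SInF.smul {a b : V} (h : SInF X a b) (s : F) : SInF X a (s • b) := fun c =>
  (h (c * s)).congr rfl (smul_smul c s b).symm

theorem SInF.add_center {a b : V} (h : SInF X a b) (s : F) : SInF X a (b + s • a) := fun c =>
  ((h c).add_smul (c * s)).congr rfl (by rw [smul_add, smul_smul])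

theorem SInF.conj {a b : V} (h : SInF X a b) {g : O Q} (hg : g ∈ X) :
    SInF X ((g : V ≃ₗ[F] V) a) ((g : V ≃ₗ[F] V) b) := fun c =>
  ((h c).conj hg).congr rfl (map_smul _ _ _)

theorem SInF.swap {a b : V} (h : SInF X a b) (hb : Q b = 0) : SInF X b a := fun c =>
  ((h (-c)).swap hb h.orth).congr rfl (by rw [neg_neg])

theorem SInF.diff {a b : V} (h : SInF X a b) {g : O Q} (hg : g ∈ X) (hga : (g : V ≃ₗ[F] V) a = a) :
    SInF X a ((g : V ≃ₗ[F] V) b - b) := ((h.conj hg).congr hga rfl).sub h

theorem sInF_zero {a : V} (ha : Q a = 0) : SInF X a 0 := fun c => (sIn_zero ha).congr rfl (smul_zero c).symm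

/-- `X` contains the elements of Ω permuting the blocks. -/
structure Over (D : Fin t → Submodule F V) (X : Subgroup (O Q)) : Prop where
  stab : ∀ s ∈ commutator (O Q), (∀ i, ∃ j, ∀ v ∈ D i, (s : V ≃ₗ[F] V) v ∈ D j) → s ∈ X

namespace ODec

variable [FiniteDimensional F V] (H : ODec Q k D)
include H

omit [FiniteDimensional F V] in
theorem pos (i : Fin t) : D i ≠ ⊥ := fun e => by
  have := H.rk i
  rw [e, finrank_bot] at this
  have := H.hk
  omega

/-- The orthogonal projection onto a block. -/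
noncomputable def pr (i : Fin t) : V →ₗ[F] V := (D i).projection (perp Q (D i)) (H.nQ.isCompl_perp (H.nd i))

theorem pr_mem (i : Fin t) (x : V) : H.pr i x ∈ D i := Submodule.projection_apply_mem _ x

theorem pr_self {i : Fin t} {x : V} (hx : x ∈ D i) : H.pr i x = x := Submodule.projection_apply_of_mem_left _ hx

theorem polar_sub_pr {i : Fin t} {y : V} (hy : y ∈ D i) (x : V) : polar Q y (x - H.pr i x) = 0 := by
  have h : x - H.pr i x ∈ perp Q (D i) := by
    refine (Submodule.projection_apply_eq_zero_iff (H.nQ.isCompl_perp (H.nd i))).1 ?_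
    show H.pr i (x - H.pr i x) = 0
    rw [map_sub, H.pr_self (H.pr_mem i x), sub_self]
  exact h y hy

theorem polar_pr {i : Fin t} {y : V} (hy : y ∈ D i) (x : V) : polar Q y (H.pr i x) = polar Q y x := by
  have := H.polar_sub_pr hy x
  rw [polar_sub_right, sub_eq_zero] at this
  exact this.symm

theorem pr_of_perp {i : Fin t} {x : V} (h : ∀ y ∈ D i, polar Q y x = 0) : H.pr i x = 0 :=
  (Submodule.projection_apply_eq_zero_iff (H.nQ.isCompl_perp (H.nd i))).2 h

theorem pr_other {i j : Fin t} {x : V} (hx : x ∈ D j) (hij : i ≠ j) : H.pr i x = 0 :=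
  H.pr_of_perp fun y hy => H.orth i j hij y hy x hx

theorem sum_pr (x : V) : ∑ i, H.pr i x = x := by
  refine H.nQ.eq_of_polar fun z => ?_
  have hz : z ∈ iSup D := H.top ▸ Submodule.mem_top
  induction hz using Submodule.iSup_induction' with
  | mem i y hy =>
    rw [polar_comm (⇑Q), polar_comm (⇑Q) x, ← polarBilin_apply', map_sum, Finset.sum_eq_single i]
    · rw [polarBilin_apply']; exact H.polar_pr hy x
    · intro j _ hji
      rw [polarBilin_apply']
      exact H.orth i j hji.symm y hy _ (H.pr_mem j x)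
    · exact fun h => absurd (Finset.mem_univ i) h
  | zero => rw [polar_zero_right, polar_zero_right]
  | add p r _ _ hp hr => rw [polar_add_right, polar_add_right, hp, hr]

theorem ext_pr {x y : V} (h : ∀ i, H.pr i x = H.pr i y) : x = y := by
  rw [← H.sum_pr x, ← H.sum_pr y, Finset.sum_congr rfl fun i _ => h i]

theorem polar_sum (x y : V) : polar Q x y = ∑ i, polar Q (H.pr i x) (H.pr i y) := by
  conv_lhs => rw [← H.sum_pr y, ← polarBilin_apply', map_sum]
  refine Finset.sum_congr rfl fun i _ => ?_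
  rw [polarBilin_apply', polar_comm, polar_comm (⇑Q) (H.pr i x), H.polar_pr (H.pr_mem i y)]

theorem q_sum (x : V) : Q x = ∑ i, Q (H.pr i x) := by
  have h := H.polar_sum x x
  simp only [polar_self', ← Finset.mul_sum] at h
  exact mul_left_cancel₀ H.two h

theorem exists_ne_of_wide {a : V} (ha : Wide D a) (i : Fin t) : ∃ j, j ≠ i ∧ H.pr j a ≠ 0 := by
  by_contra hc
  push Not at hc
  refine ha i ?_
  have : a = H.pr i a := H.ext_pr fun j => by
    rcases eq_or_ne j i with rfl | hj
    · rw [H.pr_self (H.pr_mem j a)]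
    · rw [hc j hj, H.pr_other (H.pr_mem i a) hj]
  rw [this]; exact H.pr_mem i a

theorem wide_of_two {a : V} {i j : Fin t} (hij : i ≠ j) (hi : H.pr i a ≠ 0) (hj : H.pr j a ≠ 0) : Wide D a := by
  intro l hl
  rcases eq_or_ne i l with rfl | hil
  · exact hj (H.pr_other hl hij.symm)
  · exact hi (H.pr_other hl hil)

theorem exists_pr_ne {a : V} (ha : a ≠ 0) : ∃ i, H.pr i a ≠ 0 := by
  by_contra hc
  push Not at hc
  exact ha (H.ext_pr fun i => by rw [hc i, map_zero])

omit [FiniteDimensional F V] in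
theorem rO_block {i j : Fin t} {c : V} (hc : c ∈ D j) {v : V} (hv : v ∈ D i) :
    (rO Q c : V ≃ₗ[F] V) v ∈ D i := by
  rcases eq_or_ne j i with rfl | hne
  · rw [rO_app]; exact (D j).sub_mem hv ((D j).smul_mem _ hc)
  · rw [rO_fix (H.orth j i hne c hc v hv)]; exact hv

variable (hX : Over D X)
include hX

theorem pair_mem {i j : Fin t} {c f : V} (hc : c ∈ D i) (hf : f ∈ D j) (hQc : Q c ≠ 0) (h : Q f = Q c) :
    rO Q c * rO Q f ∈ X := by
  refine hX.stab _ (rO_mul_mem H.nQ hQc h) fun l => ⟨l, fun v hv => ?_⟩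
  rw [Subgroup.coe_mul, mul_app]
  exact H.rO_block hc (H.rO_block hf hv)

variable [Finite F]

theorem sie_mem_block {i : Fin t} {u w : V} (huD : u ∈ D i) (hwD : w ∈ D i) (hu : Q u = 0)
    (hw : polar Q u w = 0) (hn : 5 ≤ finrank F V) : sie u w hu hw ∈ X := by
  refine hX.stab _ (by rw [← sieGroup_eq_commutator H.nQ hn]; exact sie_mem hu hw) fun l => ⟨l, fun v hv => ?_⟩
  rcases eq_or_ne i l with rfl | hne
  · rw [sie_app]; exact (D i).sub_mem ((D i).add_mem hv ((D i).smul_mem _ huD)) ((D i).smul_mem _ hwD)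
  · rw [sie_fix' hu hw (H.orth i l hne u huD v hv) (H.orth i l hne w hwD v hv)]; exact hv

theorem sInF_block {i : Fin t} {u w : V} (huD : u ∈ D i) (hwD : w ∈ D i) (hu : Q u = 0)
    (hw : polar Q u w = 0) (hn : 5 ≤ finrank F V) : SInF X u w := fun c =>
  ⟨hu, by rw [polar_smul_right', hw, mul_zero],
    H.sie_mem_block hX huD ((D i).smul_mem c hwD) hu (by rw [polar_smul_right', hw, mul_zero]) hn⟩

end ODec

end Cfsg.Agent.H98.OrthDecomp
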