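import Cfsg.Agent.H98.OrthDecomp.Reduce
import Cfsg.Agent.H98.OrthMax.Roots

/-!
One Eichler element between two blocks gives all Eichler transformations.
-/

set_option autoImplicit false

namespace Cfsg.Agent.H98.OrthDecomp

open QuadraticMap Module Cfsg.Agent.Orthogonal
open Cfsg.Agent.H98.SubfieldOrth

variable {F V : Type*} [Field F] [AddCommGroup V] [Module F V]
  {Q : QuadraticForm F V} {t k : ℕ} {D : Fin t → Submodule F V} {X : Subgroup (O Q)}

/-- All scaled Eichler elements from the `l`-th to the `r`-th block. -/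
def Rel (D : Fin t → Submodule F V) (X : Subgroup (O Q)) (l r : Fin t) : Prop :=
  ∀ u ∈ D l, Q u = 0 → ∀ x ∈ D r, SInF X u x

namespace ODec

variable [Finite F] [FiniteDimensional F V] (H : ODec Q k D) (hX : Over D X)
include H

omit [Finite F] in
theorem exists_sing_polar_ne {r : Fin t} {v : V} (hv : v ∈ D r) (hv0 : v ≠ 0) [Finite F] :
    ∃ d ∈ D r, Q d = 0 ∧ polar Q d v ≠ 0 := by
  by_contra hc
  push Not at hc
  have hle : D r ≤ perp Q (Submodule.span F {v}) := le_of_singular (H.nd r) (by rw [H.rk]; exact H.hk) _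
    fun x hx hqx => (mem_perp_span_singleton Q).2 (by rw [polar_comm]; exact hc x hx hqx)
  exact hv0 (congrArg Subtype.val ((H.nd r) ⟨v, hv⟩ fun x => by
    rw [polar_restr]; exact (mem_perp_span_singleton Q).1 (hle x.2)))

theorem exists_sing (r : Fin t) : ∃ d ∈ D r, d ≠ 0 ∧ Q d = 0 := by
  obtain ⟨⟨d, hd⟩, hd0, hqd⟩ := (H.nd r).exists_singular (by rw [H.rk]; exact H.hk)
  exact ⟨d, hd, fun e => hd0 (Subtype.ext e), hqd⟩

include hX

/-- One vector of a block gives the whole block. -/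
theorem row {l r : Fin t} (hlr : l ≠ r) {u v : V} (hu : u ∈ D l) (hv : v ∈ D r) (hv0 : v ≠ 0) (h : SInF X u v) :
    ∀ x ∈ D r, SInF X u x := by
  have spread : ∀ d b : V, d ∈ D r → Q d = 0 → SInF X u b → polar Q d b ≠ 0 → SInF X u d :=
    fun d b hdr hd hb hne => H.exists_sing_vec hX hb hdr (fun e => hne (by rw [e, polar_zero_left])) hd
      (H.orth r l hlr.symm d hdr u hu) (fun w hw _ => H.orth r l hlr.symm w hw u hu) (Or.inl hne)
  obtain ⟨d, hdr, hd, hdv⟩ := H.exists_sing_polar_ne hv hv0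
  have hin := spread d v hdr hd h hdv
  have hd0 : d ≠ 0 := fun e => hdv (by rw [e, polar_zero_left])
  let S : Submodule F V :=
    { carrier := {x | SInF X u x}
      add_mem' := fun ha hb => ha.add hb
      zero_mem' := sInF_zero h.singular
      smul_mem' := fun c x hx => hx.smul c }
  refine le_of_singular (H.nd r) (by rw [H.rk]; exact H.hk) S fun x hx hqx => ?_
  rcases eq_or_ne x 0 with rfl | hx0
  · exact S.zero_mem
  obtain ⟨⟨f, hfr⟩, hf, h1, h2⟩ := exists_common_partner (H.nd r) (by rw [H.rk]; exact H.hk)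
    (u := ⟨d, hdr⟩) (u' := ⟨x, hx⟩) (fun e => hd0 (congrArg Subtype.val e))
    (fun e => hx0 (congrArg Subtype.val e)) hd hqx
  rw [polar_restr] at h1 h2
  rw [restr_apply] at hf
  exact spread x f hx hqx (spread f d hfr hf hin (by rw [polar_comm]; exact h1)) h2

theorem rel_of_one {l r : Fin t} (hlr : l ≠ r) {u v : V} (hu : u ∈ D l) (hu0 : u ≠ 0) (hqu : Q u = 0)
    (hv : v ∈ D r) (hv0 : v ≠ 0) (h : SInF X u v) : Rel D X l r ∧ Rel D X r l := by
  have hrow := H.row hX hlr hu hv hv0 h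
  have hrl : Rel D X r l := fun d hd hqd x hx => by
    rcases eq_or_ne d 0 with rfl | hd0
    · exact fun c => sIn_zero_left _
    · exact H.row hX hlr.symm hd hu hu0 ((hrow d hd).swap hqd) x hx
  refine ⟨fun u' hu' hqu' x hx => ?_, hrl⟩
  rcases eq_or_ne u' 0 with rfl | hu'0
  · exact fun c => sIn_zero_left _
  obtain ⟨d, hd, hd0, hqd⟩ := H.exists_sing r
  exact H.row hX hlr hu' hd hd0 ((hrl d hd hqd u' hu').swap hqu') x hx

theorem rel_move {l r s : Fin t} (h : Rel D X l r) (hlr : l ≠ r) (hls : l ≠ s) (hrs : r ≠ s) :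
    Rel D X l s ∧ Rel D X s l := by
  obtain ⟨π, hπ, hπl, hπr⟩ := H.exists_move hX hlr hls hrs
  obtain ⟨u, hu, hu0, hqu⟩ := H.exists_sing l
  obtain ⟨d, hd, hd0, -⟩ := H.exists_sing r
  exact H.rel_of_one hX hls hu hu0 hqu (hπr d hd) (fun e => hd0 ((π : V ≃ₗ[F] V).map_eq_zero_iff.1 e))
    (((h u hu hqu d hd).conj hπ).congr (hπl u hu) rfl)

/-- An Eichler element with centre in a block and vector outside it gives everything. -/
theorem sieGroup_le_of_goal (h : Goal D X) : sieGroup Q ≤ X := by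
  obtain ⟨l, u, v, hu, hu0, hqu, hv, huv⟩ := h
  have hn := H.five_le
  obtain ⟨r, hrl, hr⟩ : ∃ r, r ≠ l ∧ H.pr r v ≠ 0 := by
    by_contra hc
    push Not at hc
    refine hv ?_
    have : v = H.pr l v := H.ext_pr fun j => by
      rcases eq_or_ne j l with rfl | hj
      · rw [H.pr_self (H.pr_mem j v)]
      · rw [hc j hj, H.pr_other (H.pr_mem l v) hj]
    rw [this]; exact H.pr_mem l v
  obtain ⟨d, hdr, hd, hdv⟩ := H.exists_sing_polar_ne (H.pr_mem r v) hr
  have hd0 : d ≠ 0 := fun e => hdv (by rw [e, polar_zero_left])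
  rw [H.polar_pr hdr] at hdv
  have hin := H.exists_sing_vec hX huv hdr hd0 hd (H.orth r l hrl d hdr u hu)
    (fun w hw _ => H.orth r l hrl w hw u hu) (Or.inl hdv)
  obtain ⟨hlr', hrl'⟩ := H.rel_of_one hX hrl.symm hu hu0 hqu hdr hd0 hin
  have hl : ∀ s, s ≠ l → Rel D X l s ∧ Rel D X s l := fun s hs => by
    rcases eq_or_ne r s with rfl | hrs
    · exact ⟨hlr', hrl'⟩
    · exact H.rel_move hX hlr' hrl.symm hs.symm hrs
  have hall : ∀ s s', s ≠ s' → Rel D X s s' := fun s s' hss => by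
    rcases eq_or_ne s l with rfl | hs
    · exact (hl s' hss.symm).1
    rcases eq_or_ne s' l with rfl | hs'
    · exact (hl s hss).2
    exact (H.rel_move hX (hl s hs).2 hs hss hs'.symm).1
  have hfull : ∀ i u, u ∈ D i → Q u = 0 → OrthMax.Full X u := by
    intro i u hu hqu w _ hw
    let S : Submodule F V :=
      { carrier := {x | SInF X u x}
        add_mem' := fun ha hb => ha.add hb
        zero_mem' := sInF_zero hqu
        smul_mem' := fun c x hx => hx.smul c }
    have hwS : w ∈ S := by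
      rw [← H.sum_pr w]
      refine S.sum_mem fun j _ => ?_
      rcases eq_or_ne i j with rfl | hij
      · exact H.sInF_block hX hu (H.pr_mem i w) hqu (by rw [H.polar_pr hu]; exact hw) hn
      · exact hall i j hij u hu hqu _ (H.pr_mem j w)
    exact hwS.sIn.2.2
  obtain ⟨f, hfl, hf, huf, -⟩ := exists_hyp_at H.nQ (H.nd l) hu hu0 hqu
  exact OrthMax.sieGroup_le_of_pair H.nQ (by omega) (hfull l u hu hqu) (hfull l f hfl hf) hqu hf
    (by rw [huf]; exact one_ne_zero)

end ODec

end Cfsg.Agent.H98.OrthDecomp
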