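import Cfsg.Agent.H98.OrthDecomp.Basic

/-!
Moving an Eichler element so that a component of its centre disappears.
-/

set_option autoImplicit false

namespace Cfsg.Agent.H98.OrthDecomp

open QuadraticMap Module Cfsg.Agent.Orthogonal
open Cfsg.Agent.H98.SubfieldOrth
open Cfsg.Agent.H98.OrthMax (rO_mul_mem)

variable {F V : Type*} [Field F] [AddCommGroup V] [Module F V]
  {Q : QuadraticForm F V} {t k : ℕ} {D : Fin t → Submodule F V} {X : Subgroup (O Q)}

/-- An Eichler element with centre in a block and vector outside it. -/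
def Goal (D : Fin t → Submodule F V) (X : Subgroup (O Q)) : Prop :=
  ∃ l u v, u ∈ D l ∧ u ≠ 0 ∧ Q u = 0 ∧ v ∉ D l ∧ SInF X u v

namespace ODec

variable [Finite F] [FiniteDimensional F V] (H : ODec Q k D) (hX : Over D X)
include H

omit [Finite F] in
theorem five_le : 5 ≤ finrank F V := by
  have ht := H.ht
  set i : Fin t := ⟨0, by omega⟩
  set j : Fin t := ⟨1, by omega⟩
  have hij : i ≠ j := by simp [i, j]
  have hle : D i ⊓ D j = ⊥ := eq_bot_iff.2 fun x hx => by
    have h1 := H.pr_other (i := i) hx.2 hij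
    rw [H.pr_self hx.1] at h1
    exact h1 ▸ Submodule.zero_mem _
  have h1 := Submodule.finrank_sup_add_finrank_inf_eq (D i) (D j)
  rw [hle, finrank_bot, H.rk, H.rk] at h1
  have h2 := Submodule.finrank_le (D i ⊔ D j)
  have := H.hk
  omega

include hX

/-- A singular vector of a block as a vector for a centre fixed by its unipotents. -/
theorem exists_sing_vec {a b : V} (h : SInF X a b) {l : Fin t} {d : V} (hdl : d ∈ D l) (hd0 : d ≠ 0)
    (hd : Q d = 0) (hda : polar Q d a = 0) (hfix : ∀ v ∈ D l, polar Q d v = 0 → polar Q v a = 0)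
    (hne : polar Q d b ≠ 0 ∨ ∃ v ∈ D l, polar Q d v = 0 ∧ polar Q v b ≠ 0) : SInF X a d := by
  have key : ∀ v ∈ D l, polar Q d v = 0 →
      SInF X a ((polar Q v b - Q v * polar Q d b) • d - polar Q d b • v) := fun v hvl hdv => by
    refine (h.diff (H.sie_mem_block hX hdl hvl hd hdv H.five_le)
      (sie_fix' hd hdv hda (hfix v hvl hdv))).congr rfl ?_
    rw [sie_app]
    abel
  by_cases hγ : polar Q d b = 0
  · obtain ⟨v, hvl, hdv, hvb⟩ := hne.resolve_left (not_not.2 hγ)
    refine ((key v hvl hdv).smul (polar Q v b)⁻¹).congr rfl ?_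
    rw [hγ, mul_zero, sub_zero, zero_smul, sub_zero, smul_smul, inv_mul_cancel₀ hvb, one_smul]
  · obtain ⟨f, -, -, -, C, hC, hCn, hCd, hCp, -⟩ := exists_hyp_at H.nQ (H.nd l) hdl hd0 hd
    obtain ⟨w, hwC, hw⟩ := exists_aniso_of_nondeg hCn (by have := H.rk l; have := H.hk; omega)
    have hdw := (hCp w hwC).1
    have h1 := key w (hC hwC) hdw
    have h2 := key ((2 : F) • w) ((D l).smul_mem _ (hC hwC)) (by rw [polar_smul_right', hdw, mul_zero])
    have hc : -2 * Q w * polar Q d b ≠ 0 := mul_ne_zero (mul_ne_zero (neg_ne_zero.2 H.two) hw) hγ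
    refine ((h2.sub (h1.smul 2)).smul (-2 * Q w * polar Q d b)⁻¹).congr rfl ?_
    rw [polar_smul_left', qmap_smul]
    have htwo := H.two
    match_scalars <;> field_simp <;> ring

/-- A block where the centre is singular and the vector is not proportional to it. -/
theorem goal_of_singular {a b : V} (ha : Wide D a) (h : SInF X a b) (l : Fin t) (hal : Q (H.pr l a) = 0)
    (hb : H.pr l b ∉ Submodule.span F {H.pr l a}) : Goal D X := by
  suffices hsuf : ∃ d ∈ D l, d ≠ 0 ∧ Q d = 0 ∧ SInF X a d by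
    obtain ⟨d, hdl, hd0, hd, hin⟩ := hsuf
    exact ⟨l, d, a, hdl, hd0, hd, ha l, hin.swap hd⟩
  rcases eq_or_ne (H.pr l a) 0 with h0 | h0
  · have hfix : ∀ v ∈ D l, polar Q v a = 0 := fun v hv => by rw [← H.polar_pr hv, h0, polar_zero_right]
    obtain ⟨d, hdl, hd, hdb⟩ : ∃ d ∈ D l, Q d = 0 ∧ polar Q d b ≠ 0 := by
      by_contra hc
      push Not at hc
      have hle : D l ≤ perp Q (Submodule.span F {b}) := le_of_singular (H.nd l) (by rw [H.rk]; exact H.hk) _
        fun v hv hqv => (mem_perp_span_singleton Q).2 (by rw [polar_comm]; exact hc v hv hqv)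
      refine hb ?_
      rw [show H.pr l b = 0 from
        H.pr_of_perp fun y hy => by rw [polar_comm]; exact (mem_perp_span_singleton Q).1 (hle hy)]
      exact Submodule.zero_mem _
    have hd0 : d ≠ 0 := fun e => hdb (by rw [e, polar_zero_left])
    exact ⟨d, hdl, hd0, hd, H.exists_sing_vec hX h hdl hd0 hd (hfix d hdl) (fun v hv _ => hfix v hv) (Or.inl hdb)⟩
  · refine ⟨_, H.pr_mem l a, h0, hal, H.exists_sing_vec hX h (H.pr_mem l a) h0 hal ?_ (fun v hv hdv => ?_) ?_⟩
    · rw [← H.polar_pr (H.pr_mem l a), polar_self', hal, mul_zero]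
    · rw [← H.polar_pr hv, polar_comm]; exact hdv
    · by_contra hc
      push Not at hc
      obtain ⟨f, hfl, -, hdf, -⟩ := exists_hyp_at H.nQ (H.nd l) (H.pr_mem l a) h0 hal
      refine hb ?_
      have hz : H.pr l b = polar Q f b • H.pr l a := by
        refine sub_eq_zero.1 (Subtype.ext_iff.1 ((H.nd l) ⟨_, (D l).sub_mem (H.pr_mem l b)
          ((D l).smul_mem (polar Q f b) (H.pr_mem l a))⟩ fun x => ?_))
        have h1 := hc.2 ((x : V) - polar Q (H.pr l a) x • f) ((D l).sub_mem x.2 ((D l).smul_mem _ hfl))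
          (by rw [polar_sub_right, polar_smul_right', hdf, mul_one, sub_self])
        rw [polar_sub_left, polar_smul_left', sub_eq_zero] at h1
        rw [polar_restr, polar_sub_left, polar_smul_left', polar_comm, H.polar_pr x.2, h1]
        ring
      rw [hz]
      exact Submodule.smul_mem _ _ (Submodule.mem_span_singleton_self _)

omit hX in
omit [Finite F] [FiniteDimensional F V] in
theorem exists_scale {B : F} (hB : B ≠ 0) (A : F) : ∃ s : F, s ≠ 0 ∧ (k = 3 → (s ^ 2 * B)⁻¹ ≠ -(4 * A)) := by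
  by_cases hk : k = 3
  · obtain ⟨s, hs0, hs⟩ := H.hex hk
    by_cases h1 : B⁻¹ = -(4 * A)
    · refine ⟨s, hs0, fun _ e => hs ?_⟩
      rw [← h1, inv_inj] at e
      exact mul_right_cancel₀ hB (by rw [one_mul]; exact e)
    · exact ⟨1, one_ne_zero, fun _ => by rwa [one_pow, one_mul]⟩
  · exact ⟨1, one_ne_zero, fun h => absurd h hk⟩

/-- The trick: conjugate by a commuting move so that the centre loses all components outside `m` and the vector. -/
theorem trick {a b : V} (h : SInF X a b) (hQb : Q b ≠ 0) {m : Fin t} (hbm : H.pr m b = 0)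
    (hA : Q (H.pr m a) ≠ 0) :
    ∃ a' b', SInF X a' b' ∧ H.pr m a' ≠ 0 ∧ H.pr m b' ∉ Submodule.span F {H.pr m a'} ∧
      (∀ r, r ≠ m → H.pr r b ≠ 0 → H.pr r a' ≠ 0) ∧
      ∀ r, r ≠ m → H.pr r b = 0 → H.pr r a' = 0 ∧ ∃ c : F, c ≠ 0 ∧ H.pr r b' = c • H.pr r a := by
  have h2 := H.two
  have hk := H.hk
  set am := H.pr m a with ham
  set A := Q am with hAd
  obtain ⟨s, hs, hs3⟩ := H.exists_scale hQb A
  set b₁ := s • b with hb₁
  have hQ₁ : Q b₁ ≠ 0 := by rw [hb₁, qmap_smul]; exact mul_ne_zero (pow_ne_zero 2 hs) hQb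
  set p := (Q b₁)⁻¹ with hp
  have hp0 : p ≠ 0 := inv_ne_zero hQ₁
  obtain ⟨P, hPle, hPn, hPd, hPp, -⟩ := exists_rest_aniso H.nQ h2 (H.nd m) (H.pr_mem m a) hA
  rw [H.rk] at hPd
  set α := (2 * A + p) / (2 * A) with hα
  obtain ⟨y, hyP, hy, hy0⟩ : ∃ y ∈ P, Q y = A * (1 - α ^ 2) ∧ y ≠ 0 := by
    by_cases hv : A * (1 - α ^ 2) = 0
    · have hk4 : 3 ≤ finrank F P := by
        by_contra hlt
        refine hs3 (by omega) ?_
        rw [hb₁, qmap_smul] at hp
        rw [← hp]
        have hαA : α * (2 * A) = 2 * A + p := div_mul_cancel₀ _ (mul_ne_zero h2 hA)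
        have h' : p * (p + 4 * A) = 0 := by
          linear_combination (-(4 * A)) * hv - (α * (2 * A) + 2 * A + p) * hαA
        exact eq_neg_of_add_eq_zero_left ((mul_eq_zero.1 h').resolve_left hp0)
      obtain ⟨⟨y, hyP⟩, hy0, hy⟩ := hPn.exists_singular hk4
      exact ⟨y, hyP, by rw [hv]; exact hy, fun e => hy0 (Subtype.ext e)⟩
    · obtain ⟨y, hyP, hy⟩ := exists_value_mem hPn (by omega) (A * (1 - α ^ 2))
      exact ⟨y, hyP, hy, fun e => hv (by rw [← hy, e, map_zero])⟩
  set x := α • am + y with hx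
  have hxm : x ∈ D m := (D m).add_mem ((D m).smul_mem _ (H.pr_mem m a)) (hPle hyP)
  have hpy : polar Q am y = 0 := hPp y hyP
  have hQx : Q x = A := by
    rw [hx, map_add_polar, qmap_smul, polar_smul_left', hpy, hy, ← hAd]; ring
  have hxa : polar Q x am = 2 * A + p := by
    rw [hx, polar_add_left, polar_smul_left', polar_self', polar_comm (⇑Q) y am, hpy, ← hAd, hα]
    field_simp
    ring
  have hxne : ∀ c : F, x ≠ c • am := fun c e => hy0 (by
    have h1 := congrArg (polar Q am) e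
    rw [hx, polar_add_right, polar_smul_right', polar_smul_right', hpy, add_zero, polar_self'] at h1
    have hc : α = c := mul_right_cancel₀ (mul_ne_zero h2 hA) h1
    rw [hx, hc] at e
    simpa using e)
  have hd : Q (am - x) = -p := by rw [qmap_sub, hQx, polar_comm, hxa, ← hAd]; ring
  have hd0 : Q (am - x) ≠ 0 := by rw [hd]; exact neg_ne_zero.2 hp0
  have hxA : Q x ≠ 0 := hQx.symm ▸ hA
  obtain ⟨P', hP'le, hP'n, hP'd, hP'p, -⟩ := exists_rest_aniso H.nQ h2 (H.nd m) hxm hxA
  rw [H.rk] at hP'd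
  obtain ⟨e, heP, he⟩ := exists_value_mem hP'n (by omega) (-p)
  set δ := x - am with hδ
  set g := rO Q e * rO Q (am - x) with hgd
  have hg : g ∈ X := H.pair_mem hX (hP'le heP) ((D m).sub_mem (H.pr_mem m a) hxm)
    (by rw [he]; exact neg_ne_zero.2 hp0) (by rw [he, hd])
  have hga : (g : V ≃ₗ[F] V) a = a + δ := by
    have h0 : ∀ v ∈ D m, polar Q v (a - am) = 0 := fun v hv => H.polar_sub_pr hv a
    have h1 : (g : V ≃ₗ[F] V) (a - am) = a - am := by
      rw [hgd, Subgroup.coe_mul, mul_app, rO_fix (h0 _ ((D m).sub_mem (H.pr_mem m a) hxm)),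
        rO_fix (h0 _ (hP'le heP))]
    have h3 : (g : V ≃ₗ[F] V) am = x := by
      rw [hgd, Subgroup.coe_mul, mul_app, rO_sub_swap hQx.symm hd0,
        rO_fix (by rw [polar_comm]; exact hP'p e heP)]
    calc (g : V ≃ₗ[F] V) a = (g : V ≃ₗ[F] V) am + (g : V ≃ₗ[F] V) (a - am) := by rw [← map_add]; congr 1; abel
      _ = a + δ := by rw [h1, h3, hδ]; abel
  have hbp : ∀ v ∈ D m, polar Q v b₁ = 0 := fun v hv => by
    rw [hb₁, polar_smul_right', ← H.polar_pr hv, hbm, polar_zero_right, mul_zero]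
  have hgb : (g : V ≃ₗ[F] V) b₁ = b₁ := by
    rw [hgd, Subgroup.coe_mul, mul_app, rO_fix (hbp _ ((D m).sub_mem (H.pr_mem m a) hxm)),
      rO_fix (hbp _ (hP'le heP))]
  have hb1F : SInF X a b₁ := h.smul s
  have hb2F : SInF X (a + δ) b₁ := (hb1F.conj hg).congr hga hgb
  obtain ⟨hu, hw, hY⟩ := hb2F.sIn
  have hδm : δ ∈ D m := (D m).sub_mem hxm (H.pr_mem m a)
  have hpa : polar Q (a + δ) a = p := by
    rw [polar_add_left, polar_self', h.singular, ← H.polar_pr hδm, ← ham, hδ, polar_sub_left, hxa,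
      polar_self', ← hAd]
    ring
  have hba : polar Q b₁ a = 0 := by rw [polar_comm]; exact hb1F.orth
  have hpb : Q b₁ * p = 1 := mul_inv_cancel₀ hQ₁
  refine ⟨-(δ + p • b₁), b₁ + (2 * Q b₁) • (a + δ), (hb1F.conj hY).congr ?_ ?_, ?_, ?_, ?_, ?_⟩
  · rw [sie_app, hpa, hba, hpb]
    module
  · rw [sie_app, hw, polar_self']
    module
  all_goals
    simp only [map_neg, map_add, map_smul, hb₁, hbm, smul_zero, add_zero, zero_add]
  · rw [H.pr_self hδm, neg_ne_zero, hδ, sub_ne_zero]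
    exact fun e => hxne 1 (by rw [e, one_smul])
  · rw [H.pr_self hδm, ← ham, hδ, add_sub_cancel]
    intro hmem
    obtain ⟨c, hc⟩ := Submodule.mem_span_singleton.1 hmem
    set q := 2 * Q (s • b) with hq
    have hq0 : q ≠ 0 := mul_ne_zero h2 hQ₁
    have hc0 : c ≠ 0 := fun e => by
      rw [e, zero_smul] at hc
      exact (fun e' => hxA (by rw [e', map_zero])) ((smul_eq_zero.1 hc.symm).resolve_left hq0)
    have e1 : (q + c) • x = c • am := by
      linear_combination (norm := module) -hc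
    rcases eq_or_ne (q + c) 0 with h0 | h0
    · rw [h0, zero_smul, eq_comm, smul_eq_zero] at e1
      exact hA (by rw [hAd, e1.resolve_left hc0, map_zero])
    · exact hxne ((q + c)⁻¹ * c) (by rw [← smul_smul, ← e1, inv_smul_smul₀ h0])
  · intro r hr hbr
    rw [H.pr_other hδm hr, zero_add, smul_smul, neg_ne_zero]
    exact smul_ne_zero (mul_ne_zero hp0 hs) hbr
  · intro r hr hbr
    rw [H.pr_other hδm hr, hbr]
    simp only [smul_zero, add_zero, neg_zero, zero_add, true_and]
    exact ⟨_, mul_ne_zero h2 hQ₁, rfl⟩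

end ODec

end Cfsg.Agent.H98.OrthDecomp
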